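import Cfsg.Agent.H436.TTPsl2
import Cfsg.Agent.H418.PglNse
import Cfsg.Agent.H363.PslCard
import Cfsg.Prelude.Def_Sporadic

/-!
# Subgroups of prime power index in `PSL_2(q)` (the row `PSL_2(q)` of Guralnick's theorem)
-/

set_option autoImplicit false

namespace Cfsg.Agent.H605.PSLTwoIndex

open Cfsg.Agent.ClassicalGeometry

/-- numbers: two coprime numbers `≥ 3` whose product divides `2 p^k` -/
theorem no_two {p k a b : ℕ} (hp : p.Prime) (hab : a.Coprime b) (ha : 3 ≤ a) (hb : 3 ≤ b)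
    (h : a * b ∣ 2 * p ^ k) : False := by
  by_cases hpa : p ∣ a
  · have hpb : ¬ p ∣ b := fun hpb => by
      have := Nat.dvd_gcd hpa hpb
      rw [hab] at this
      exact hp.one_lt.ne' (Nat.dvd_one.1 this)
    have h1 : b ∣ 2 := by
      have h2 : b.Coprime (p ^ k) := (((Nat.Prime.coprime_iff_not_dvd hp).2 hpb).symm).pow_right k
      exact h2.dvd_of_dvd_mul_right ((Dvd.intro_left _ rfl).trans h)
    have := Nat.le_of_dvd (by norm_num) h1
    omega
  · have h1 : a ∣ 2 := by
      have h2 : a.Coprime (p ^ k) := (((Nat.Prime.coprime_iff_not_dvd hp).2 hpa).symm).pow_right k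
      exact h2.dvd_of_dvd_mul_right ((Dvd.intro _ rfl).trans h)
    have := Nat.le_of_dvd (by norm_num) h1
    omega

theorem two_primes {p k m : ℕ} (hp : p.Prime) (a b : ℕ) (ha : a.Prime) (hb : b.Prime) (hab : a ≠ b)
    (h : p ^ k = m) (h1 : a ∣ m) (h2 : b ∣ m) : False := by
  subst h
  have e1 := (Nat.prime_dvd_prime_iff_eq ha hp).1 (ha.dvd_of_dvd_pow h1)
  have e2 := (Nat.prime_dvd_prime_iff_eq hb hp).1 (hb.dvd_of_dvd_pow h2)
  exact hab (e1.trans e2.symm)

/-- the numbers `q - 1`, `q`, `q + 1` -/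
theorem cop_sub {q : ℕ} (h : 1 ≤ q) : q.Coprime (q - 1) := by
  obtain ⟨n, rfl⟩ : ∃ n, q = n + 1 := ⟨q - 1, by omega⟩
  simp

theorem cop_add (q : ℕ) : q.Coprime (q + 1) := by simp

/-- case (a): cyclic and dihedral subgroups -/
theorem case_a {q p k c g k' : ℕ} (hq : 4 ≤ q) (hp : p.Prime) (hg : g = Nat.gcd 2 (q - 1))
    (hk' : k' ∣ (q + 1) / g ∨ k' ∣ (q - 1) / g) (hc : c ∣ 2 * k')
    (h : c * p ^ k * g = q * (q ^ 2 - 1)) : False := by
  have hg1 : g ∣ q - 1 := by rw [hg]; exact Nat.gcd_dvd_right _ _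
  have hg2 : g ∣ q + 1 := by
    have : g ∣ 2 := by rw [hg]; exact Nat.gcd_dvd_left _ _
    have h2 : q + 1 = (q - 1) + 2 := by omega
    rw [h2]
    exact dvd_add hg1 this
  have hfac : q * (q ^ 2 - 1) = q * (q - 1) * (q + 1) := by
    obtain ⟨n, rfl⟩ : ∃ n, q = n + 1 := ⟨q - 1, by omega⟩
    have : (n + 1) ^ 2 - 1 = n * (n + 2) := by
      have : (n + 1) ^ 2 = n * (n + 2) + 1 := by ring
      omega
    rw [this]
    simp only [Nat.add_sub_cancel]
    ring
  rcases hk' with hk' | hk'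
  · have h1 : c * g ∣ 2 * (q + 1) := by
      calc c * g ∣ (2 * k') * g := Nat.mul_dvd_mul_right hc g
        _ = 2 * (k' * g) := by ring
        _ ∣ 2 * (q + 1) := by
          refine Nat.mul_dvd_mul_left 2 ?_
          obtain ⟨t, ht⟩ := hk'
          have := Nat.div_mul_cancel hg2
          rw [ht] at this
          exact ⟨t, by rw [← this]; ring⟩
    have h2 : q * (q - 1) * (q + 1) ∣ 2 * p ^ k * (q + 1) := by
      rw [← hfac, ← h]
      calc c * p ^ k * g = c * g * p ^ k := by ring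
        _ ∣ 2 * (q + 1) * p ^ k := Nat.mul_dvd_mul_right h1 _
        _ = 2 * p ^ k * (q + 1) := by ring
    have h3 := Nat.dvd_of_mul_dvd_mul_right (by omega : 0 < q + 1) h2
    exact no_two hp (cop_sub (by omega)) (by omega) (by omega) h3
  · have h1 : c * g ∣ 2 * (q - 1) := by
      calc c * g ∣ (2 * k') * g := Nat.mul_dvd_mul_right hc g
        _ = 2 * (k' * g) := by ring
        _ ∣ 2 * (q - 1) := by
          refine Nat.mul_dvd_mul_left 2 ?_
          obtain ⟨t, ht⟩ := hk'
          have := Nat.div_mul_cancel hg1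
          rw [ht] at this
          exact ⟨t, by rw [← this]; ring⟩
    have h2 : q * (q + 1) * (q - 1) ∣ 2 * p ^ k * (q - 1) := by
      have e : q * (q + 1) * (q - 1) = q * (q - 1) * (q + 1) := by ring
      rw [e, ← hfac, ← h]
      calc c * p ^ k * g = c * g * p ^ k := by ring
        _ ∣ 2 * (q - 1) * p ^ k := Nat.mul_dvd_mul_right h1 _
        _ = 2 * p ^ k * (q - 1) := by ring
    have h3 := Nat.dvd_of_mul_dvd_mul_right (by omega : 0 < q - 1) h2
    exact no_two hp (cop_add q) (by omega) (by omega) h3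

/-- case (b): subgroups of the Borel subgroup; `b` is the order of the Borel subgroup and `c` the index in it -/
theorem case_b {q p k b c : ℕ} (hq : 4 ≤ q) (hp : p.Prime)
    (hb : b * Nat.gcd 2 (q - 1) = q * (q - 1)) (hc : c ∣ b) (h : p ^ k = c * (q + 1)) : p ^ k = q + 1 := by
  have hpq : p ∣ q + 1 := by
    have h1 : q + 1 ∣ p ^ k := ⟨c, by rw [h]; ring⟩
    obtain ⟨j, hj, hj2⟩ := (Nat.dvd_prime_pow hp).1 h1
    rcases j with _ | j
    · simp at hj2; omega
    · rw [hj2]; exact Dvd.intro_left _ rfl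
  have hpnq : ¬ p ∣ q := fun h1 => by
    have := (Nat.dvd_add_right h1).1 hpq
    exact hp.one_lt.ne' (Nat.dvd_one.1 this)
  have hpb : ¬ p ∣ b := by
    intro h1
    rcases hp.eq_two_or_odd' with rfl | hodd
    · -- `p = 2`
      have h2 : q + 1 ∣ 2 ^ k := ⟨c, by rw [h]; ring⟩
      obtain ⟨j, hj, hj2⟩ := (Nat.dvd_prime_pow hp).1 h2
      have h4 : 4 ∣ q + 1 := by
        rcases j with _ | _ | j
        · simp at hj2; omega
        · simp at hj2; omega
        · rw [hj2]; exact ⟨2 ^ j, by ring⟩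
      obtain ⟨t, ht⟩ : ∃ t, q = 4 * t + 3 := by
        obtain ⟨s, hs⟩ := h4
        exact ⟨s - 1, by omega⟩
      have hg : Nat.gcd 2 (q - 1) = 2 := by
        apply Nat.gcd_eq_left
        exact ⟨2 * t + 1, by omega⟩
      rw [hg] at hb
      have h5 : b = q * (2 * t + 1) := by
        have h6 : q - 1 = (2 * t + 1) * 2 := by omega
        rw [h6, ← mul_assoc] at hb
        exact Nat.eq_of_mul_eq_mul_right (by norm_num) hb
      rw [h5] at h1
      rcases (Nat.prime_two.dvd_mul).1 h1 with h7 | h7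
      · exact hpnq h7
      · omega
    · have h2 : p ∣ q * (q - 1) := h1.trans ⟨_, hb.symm⟩
      rcases (hp.dvd_mul).1 h2 with h3 | h3
      · exact hpnq h3
      · have h4 : q + 1 = (q - 1) + 2 := by omega
        rw [h4] at hpq
        have h5 := (Nat.dvd_add_right h3).1 hpq
        have h6 := (Nat.prime_dvd_prime_iff_eq hp Nat.prime_two).1 h5
        rw [h6] at hodd
        exact absurd hodd (by decide)
  have hc1 : c = 1 := by
    have h1 : c ∣ p ^ k := ⟨q + 1, h⟩
    obtain ⟨j, hj, hj2⟩ := (Nat.dvd_prime_pow hp).1 h1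
    rcases j with _ | j
    · simpa using hj2
    · exact absurd ((hj2 ▸ Dvd.intro_left _ rfl : p ∣ c).trans hc) hpb
  rw [h, hc1, one_mul]

/-- case (c): the bound `q ∈ {4, 5, 7, 8, 11, 16}` -/
theorem case_c_bound {q p k n : ℕ} (hq : 4 ≤ q) (hqp : IsPrimePow q) (hp : p.Prime)
    (hn : n = 12 ∨ n = 24 ∨ n = 60) (h : q * (q ^ 2 - 1) ∣ 2 * n * p ^ k) :
    q = 4 ∨ q = 5 ∨ q = 7 ∨ q = 8 ∨ q = 11 ∨ q = 16 := by
  by_cases hpq : p ∣ q
  · have h1 : (q ^ 2 - 1).Coprime (p ^ k) := by
      refine (Nat.Coprime.symm ?_).pow_right k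
      rw [Nat.Prime.coprime_iff_not_dvd hp]
      intro h2
      have h3 : q ^ 2 = (q ^ 2 - 1) + 1 := by
        have : 1 ≤ q ^ 2 := Nat.one_le_pow _ _ (by omega)
        omega
      have h4 : p ∣ q ^ 2 := hpq.trans (dvd_pow_self q two_ne_zero)
      rw [h3] at h4
      exact hp.one_lt.ne' (Nat.dvd_one.1 ((Nat.dvd_add_right h2).1 h4))
    have h2 : q ^ 2 - 1 ∣ 2 * n := h1.dvd_of_dvd_mul_right ((Dvd.intro_left _ rfl).trans h)
    have h3 : q ≤ 11 := by
      have h4 := Nat.le_of_dvd (by omega) h2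
      by_contra hlt
      have : 12 ≤ q := by omega
      have h5 : 12 ^ 2 ≤ q ^ 2 := Nat.pow_le_pow_left this 2
      omega
    interval_cases q <;> rcases hn with rfl | rfl | rfl <;> revert h2 <;> decide
  · have h1 : q.Coprime (p ^ k) := by
      refine (Nat.Coprime.symm ?_).pow_right k
      rwa [Nat.Prime.coprime_iff_not_dvd hp]
    have h2 : q ∣ 2 * n := h1.dvd_of_dvd_mul_right ((Dvd.intro _ rfl).trans h)
    obtain ⟨r, m, hr, hm, rfl⟩ := (isPrimePow_nat_iff _).1 hqp
    have hr' : r = 2 ∨ r = 3 ∨ r = 5 := by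
      have h3 : r ∣ 2 * n := (dvd_pow_self r (by omega)).trans h2
      have h4 : r ∣ 2 ^ 3 * 3 * 5 ∨ r ∣ 2 ^ 4 * 3 := by
        rcases hn with rfl | rfl | rfl
        · exact Or.inl (h3.trans (by decide))
        · exact Or.inr (h3.trans (by decide))
        · exact Or.inl (h3.trans (by decide))
      rcases h4 with h4 | h4
      · rcases (hr.dvd_mul).1 h4 with h5 | h5
        · rcases (hr.dvd_mul).1 h5 with h6 | h6
          · exact Or.inl ((Nat.prime_dvd_prime_iff_eq hr Nat.prime_two).1 (hr.dvd_of_dvd_pow h6))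
          · exact Or.inr (Or.inl ((Nat.prime_dvd_prime_iff_eq hr Nat.prime_three).1 h6))
        · exact Or.inr (Or.inr ((Nat.prime_dvd_prime_iff_eq hr Nat.prime_five).1 h5))
      · rcases (hr.dvd_mul).1 h4 with h6 | h6
        · exact Or.inl ((Nat.prime_dvd_prime_iff_eq hr Nat.prime_two).1 (hr.dvd_of_dvd_pow h6))
        · exact Or.inr (Or.inl ((Nat.prime_dvd_prime_iff_eq hr Nat.prime_three).1 h6))
    have hle : r ^ m ≤ 120 := (Nat.le_of_dvd (by omega) h2).trans (by omega)
    have hm7 : m < 7 := by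
      by_contra hlt
      have h5 : 2 ^ 7 ≤ r ^ m := (Nat.pow_le_pow_left hr.two_le 7).trans
        (Nat.pow_le_pow_right hr.pos (by omega))
      omega
    rcases hr' with rfl | rfl | rfl <;> interval_cases m <;> rcases hn with rfl | rfl | rfl <;>
      revert h2 hq <;> decide

/-- case (d): subfield subgroups -/
theorem case_d {s m p k n : ℕ} (hs : 2 ≤ s) (hq : 4 ≤ s ^ m) (hp : p.Prime) (hk : 1 ≤ k)
    (hns : n = s * (s ^ 2 - 1) ∨ (Odd s ∧ n = 2 * (s * (s ^ 2 - 1))))
    (h : n * p ^ k = s ^ m * ((s ^ m) ^ 2 - 1)) : False := by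
  have hn : s * (s ^ 2 - 1) ≤ n := by
    rcases hns with h1 | ⟨_, h1⟩ <;> omega
  have hn2 : n ∣ 2 * (s * (s ^ 2 - 1)) := by
    rcases hns with h1 | ⟨_, h1⟩
    · rw [h1]; exact Dvd.intro_left _ rfl
    · rw [h1]
  have hs2 : 3 ≤ s ^ 2 - 1 := by
    have : 2 ^ 2 ≤ s ^ 2 := Nat.pow_le_pow_left hs 2
    omega
  rcases m with _ | _ | m
  · simp at hq
  · rw [zero_add, pow_one] at h
    have h1 : 2 ≤ p ^ k := hp.two_le.trans (Nat.le_self_pow (by omega) p)
    have h2 : 0 < s * (s ^ 2 - 1) := by positivity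
    have h3 : s * (s ^ 2 - 1) * 2 ≤ n * p ^ k := Nat.mul_le_mul hn h1
    omega
  · -- `a = s^(m+1)`
    obtain ⟨b, hb⟩ : s ^ 2 - 1 ∣ (s ^ 2) ^ (m + 2) - 1 := by
      have := Nat.sub_dvd_pow_sub_pow (s ^ 2) 1 (m + 2)
      simpa using this
    have hsq : (s ^ (m + 2)) ^ 2 - 1 = (s ^ 2 - 1) * b := by
      rw [← hb, ← pow_mul, ← pow_mul, mul_comm]
    have h1 : s ^ (m + 1) * b ∣ 2 * p ^ k := by
      have h2 : (s ^ (m + 1) * b) * (s * (s ^ 2 - 1)) ∣ (2 * p ^ k) * (s * (s ^ 2 - 1)) := by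
        have e1 : (s ^ (m + 1) * b) * (s * (s ^ 2 - 1)) = n * p ^ k := by
          rw [h, hsq]; ring
        rw [e1]
        have e2 : (2 * p ^ k) * (s * (s ^ 2 - 1)) = 2 * (s * (s ^ 2 - 1)) * p ^ k := by ring
        rw [e2]
        exact Nat.mul_dvd_mul_right hn2 _
      exact Nat.dvd_of_mul_dvd_mul_right (by positivity) h2
    have hb5 : 5 ≤ b := by
      by_contra hlt
      have h2 : b ≤ 4 := by omega
      have h3 : (s ^ 2) ^ 2 ≤ (s ^ 2) ^ (m + 2) := Nat.pow_le_pow_right (by positivity) (by omega)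
      have h4 : (s ^ 2) ^ 2 - 1 ≤ (s ^ 2 - 1) * 4 := by
        calc (s ^ 2) ^ 2 - 1 ≤ (s ^ 2) ^ (m + 2) - 1 := by omega
          _ = (s ^ 2 - 1) * b := hb
          _ ≤ (s ^ 2 - 1) * 4 := Nat.mul_le_mul_left _ h2
      obtain ⟨t, ht⟩ : ∃ t, s ^ 2 = t + 4 := ⟨s ^ 2 - 4, by omega⟩
      rw [ht] at h4
      have h5 : (t + 4) ^ 2 - 1 = (t + 3) * (t + 5) := by
        have : (t + 4) ^ 2 = (t + 3) * (t + 5) + 1 := by ring
        omega
      rw [h5] at h4
      have h6 : t + 4 - 1 = t + 3 := by omega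
      rw [h6] at h4
      nlinarith
    have hcop : (s ^ (m + 1)).Coprime b := by
      refine Nat.Coprime.pow_left _ ?_
      have h2 : s.Coprime ((s ^ (m + 2)) ^ 2 - 1) := by
        have h3 : ((s ^ (m + 2)) ^ 2).Coprime ((s ^ (m + 2)) ^ 2 - 1) := cop_sub (Nat.one_le_pow _ _ (by positivity))
        refine h3.coprime_dvd_left ?_
        rw [← pow_mul]
        exact dvd_pow_self s (by positivity)
      exact h2.coprime_dvd_right ⟨s ^ 2 - 1, by rw [hsq]; ring⟩
    by_cases ha : 3 ≤ s ^ (m + 1)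
    · exact no_two hp hcop ha (by omega) h1
    · -- `s = 2`, `m = 0`
      have hs3 : s = 2 := by
        have h2 : s ≤ s ^ (m + 1) := Nat.le_self_pow (by omega) s
        omega
      subst hs3
      have hm : m = 0 := by
        by_contra hm
        have h2 : 2 ^ 2 ≤ 2 ^ (m + 1) := Nat.pow_le_pow_right (by norm_num) (by omega)
        omega
      subst hm
      have h3 : n = 6 := by
        rcases hns with h1 | ⟨h1, _⟩
        · rw [h1]; norm_num
        · exact absurd h1 (by decide)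
      subst h3
      norm_num at h
      exact two_primes hp 2 5 Nat.prime_two Nat.prime_five (by norm_num)
        (show p ^ k = 10 by omega) (by norm_num) (by norm_num)

theorem gcd_even {n : ℕ} (h : 1 ≤ n) (he : Even n) : Nat.gcd 2 (n - 1) = 1 := by
  have : Odd (n - 1) := by
    obtain ⟨t, ht⟩ := he
    exact ⟨t - 1, by omega⟩
  exact (Nat.coprime_two_left).2 this

theorem gcd_odd {n : ℕ} (ho : Odd n) : Nat.gcd 2 (n - 1) = 2 := by
  apply Nat.gcd_eq_left
  obtain ⟨t, ht⟩ := ho
  exact ⟨t, by omega⟩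

/-- `A_5` is transported along an isomorphism of the index with `5` -/
theorem alt_congr {G : Type*} [Group G] {n m : ℕ} (h : m = n) (e : Nonempty (G ≃* alternatingGroup (Fin n))) :
    Nonempty (G ≃* alternatingGroup (Fin m)) := by subst h; exact e

theorem card_alt4 : Nat.card (alternatingGroup (Fin 4)) = 12 := by
  have := two_mul_nat_card_alternatingGroup (α := Fin 4)
  rw [Nat.card_perm, Nat.card_fin] at this
  have h2 : Nat.factorial 4 = 24 := rfl
  omega

theorem card_alt5 : Nat.card (alternatingGroup (Fin 5)) = 60 := by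
  have := two_mul_nat_card_alternatingGroup (α := Fin 5)
  rw [Nat.card_perm, Nat.card_fin] at this
  have h2 : Nat.factorial 5 = 120 := rfl
  omega

theorem card_perm4 : Nat.card (Equiv.Perm (Fin 4)) = 24 := by
  rw [Nat.card_perm, Nat.card_fin]; rfl

theorem eleven {G : Type*} [Group G] {F : Type} [Field F] [Fintype F] (h : Fintype.card F = 11)
    (e : G ≃* Matrix.ProjectiveSpecialLinearGroup (Fin 2) F) :
    Nonempty (G ≃* Matrix.ProjectiveSpecialLinearGroup (Fin 2) (ZMod 11)) := by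
  have f : ZMod 11 ≃+* F := ZMod.ringEquivOfPrime F (by norm_num) h
  exact ⟨e.trans (H363.PslCard.pslEquiv f.symm)⟩

/-- **Subgroups of prime power index of `PSL_2(q)`**: the numbers. -/
theorem idx {F : Type*} [Field F] [Fintype F] (h4 : 4 ≤ Fintype.card F)
    (K : Subgroup (Matrix.ProjectiveSpecialLinearGroup (Fin 2) F)) (p k : ℕ) (hp : p.Prime) (hk : 1 ≤ k)
    (hKi : K.index = p ^ k) :
    (Fintype.card F = 4 ∧ p ^ k = 5) ∨ (Fintype.card F = 5 ∧ p ^ k = 5) ∨ (Fintype.card F = 7 ∧ p ^ k = 7) ∨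
      (Fintype.card F = 11 ∧ p ^ k = 11) ∨ p ^ k = Fintype.card F + 1 := by
  classical
  obtain ⟨r, hr⟩ := CharP.exists F
  have _ := hr
  have _ : Fact r.Prime := ⟨CharP.char_is_prime F r⟩
  set q := Fintype.card F with hq
  have hcard : Nat.card K * p ^ k * Nat.gcd 2 (q - 1) = q * (q ^ 2 - 1) := by
    rw [← hKi, Subgroup.card_mul_index]
    exact PSL2Basic.card_PSL2_gcd _
  have hg2 : Nat.gcd 2 (q - 1) ∣ 2 := Nat.gcd_dvd_left _ _
  have hqp : IsPrimePow q := by
    obtain ⟨n, hr', hn⟩ := FiniteField.card F r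
    exact (isPrimePow_nat_iff _).2 ⟨r, n, hr', n.pos, by rw [hq, hn]⟩
  -- case (c)
  have hC : ∀ n, (n = 12 ∨ n = 24 ∨ n = 60) → Nat.card K = n →
      (q = 4 ∧ p ^ k = 5) ∨ (q = 5 ∧ p ^ k = 5) ∨ (q = 7 ∧ p ^ k = 7) ∨ (q = 11 ∧ p ^ k = 11) ∨ p ^ k = q + 1 := by
    intro n hn hKn
    rw [hKn] at hcard
    have hdvd : q * (q ^ 2 - 1) ∣ 2 * n * p ^ k := by
      rw [← hcard]
      calc n * p ^ k * Nat.gcd 2 (q - 1) ∣ n * p ^ k * 2 := Nat.mul_dvd_mul_left _ hg2
        _ = 2 * n * p ^ k := by ring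
    have h1k : 2 ≤ p ^ k := hp.two_le.trans (Nat.le_self_pow (by omega) p)
    rcases case_c_bound h4 hqp hp hn hdvd with h | h | h | h | h | h
    · -- q = 4
      rw [h] at hcard
      norm_num at hcard
      rcases hn with rfl | rfl | rfl <;> omega
    · -- q = 5
      rw [h] at hcard
      norm_num at hcard
      rcases hn with rfl | rfl | rfl <;> omega
    · -- q = 7
      rw [h] at hcard
      norm_num at hcard
      rcases hn with rfl | rfl | rfl
      · exact (two_primes hp 2 7 Nat.prime_two (by norm_num) (by norm_num)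
          (show p ^ k = 14 by omega) (by norm_num) (by norm_num)).elim
      · omega
      · omega
    · -- q = 8
      rw [h] at hcard
      norm_num at hcard
      rcases hn with rfl | rfl | rfl
      · exact (two_primes hp 2 3 Nat.prime_two (by norm_num) (by norm_num)
          (show p ^ k = 42 by omega) (by norm_num) (by norm_num)).elim
      · exact (two_primes hp 3 7 Nat.prime_three (by norm_num) (by norm_num)
          (show p ^ k = 21 by omega) (by norm_num) (by norm_num)).elim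
      · omega
    · -- q = 11
      rw [h] at hcard
      norm_num at hcard
      rcases hn with rfl | rfl | rfl
      · exact (two_primes hp 5 11 Nat.prime_five (by norm_num) (by norm_num)
          (show p ^ k = 55 by omega) (by norm_num) (by norm_num)).elim
      · omega
      · omega
    · -- q = 16
      rw [h] at hcard
      norm_num at hcard
      rcases hn with rfl | rfl | rfl
      · exact (two_primes hp 2 5 Nat.prime_two (by norm_num) (by norm_num)
          (show p ^ k = 340 by omega) (by norm_num) (by norm_num)).elim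
      · exact (two_primes hp 2 5 Nat.prime_two (by norm_num) (by norm_num)
          (show p ^ k = 170 by omega) (by norm_num) (by norm_num)).elim
      · exact (two_primes hp 2 17 Nat.prime_two (by norm_num) (by norm_num)
          (show p ^ k = 68 by omega) (by norm_num) (by norm_num)).elim
  rcases S0799.result hq.symm r K with h | h | h | h | h | h
  · -- (a)
    obtain ⟨k', hk', h⟩ := h
    exfalso
    have hc : Nat.card K ∣ 2 * k' := by
      rcases h with ⟨_, h⟩ | ⟨⟨f⟩⟩
      · rw [h]; exact Dvd.intro_left _ rfl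
      · rw [Nat.card_congr f.toEquiv, DihedralGroup.nat_card]
    exact case_a h4 hp rfl hk' hc hcard
  · -- (b)
    obtain ⟨P, L, hL, ⟨f⟩⟩ := h
    have hN := H436.TT.index_normalizer r P
    set N := Subgroup.normalizer ((P : Subgroup (Matrix.ProjectiveSpecialLinearGroup (Fin 2) F)) :
      Set (Matrix.ProjectiveSpecialLinearGroup (Fin 2) F)) with hNdef
    have hLi : L.index = p ^ k := by
      have h1 := Nat.card_congr f.toEquiv
      have h2 := K.card_mul_index
      have h3 := L.card_mul_index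
      rw [hKi] at h2
      rw [← h1, ← h2] at h3
      exact Nat.eq_of_mul_eq_mul_left Nat.card_pos h3
    have h1 : L.relIndex N * (q + 1) = p ^ k := by
      rw [← hLi, ← hN]
      exact Subgroup.relIndex_mul_index hL
    have hb : Nat.card N * Nat.gcd 2 (q - 1) = q * (q - 1) := by
      have h2 : Nat.card N * (q + 1) * Nat.gcd 2 (q - 1) = q * (q ^ 2 - 1) := by
        rw [← hN, Subgroup.card_mul_index]
        exact PSL2Basic.card_PSL2_gcd _
      have h3 : q ^ 2 - 1 = (q - 1) * (q + 1) := by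
        have := Nat.sq_sub_sq q 1
        rw [one_pow] at this
        rw [this]; ring
      rw [h3] at h2
      refine Nat.eq_of_mul_eq_mul_right (show 0 < q + 1 by omega) ?_
      calc _ = Nat.card N * (q + 1) * Nat.gcd 2 (q - 1) := by ring
        _ = _ := by rw [h2]; ring
    have hcN : L.relIndex N ∣ Nat.card N := by
      have := Subgroup.relIndex_dvd_card L N
      exact this
    have h5 := case_b h4 hp hb hcN h1.symm
    exact Or.inr (Or.inr (Or.inr (Or.inr h5)))
  · obtain ⟨f⟩ := h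
    exact hC 12 (by simp) ((Nat.card_congr f.toEquiv).trans card_alt4)
  · obtain ⟨f⟩ := h
    exact hC 24 (by simp) ((Nat.card_congr f.toEquiv).trans card_perm4)
  · obtain ⟨f⟩ := h
    exact hC 60 (by simp) ((Nat.card_congr f.toEquiv).trans card_alt5)
  · -- (d)
    obtain ⟨E, _, _, m, hm, h⟩ := h
    exfalso
    have hs : 2 ≤ Fintype.card E := Fintype.one_lt_card
    have hm0 : m ≠ 0 := by
      rintro rfl
      rw [pow_zero] at hm
      omega
    have hE1 : Even (Fintype.card E) → Nat.gcd 2 (Fintype.card E - 1) = 1 := fun he =>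
      gcd_even (by omega) he
    have hE2 : Odd (Fintype.card E) → Nat.gcd 2 (Fintype.card E - 1) = 2 := fun ho => gcd_odd ho
    have hgs : Nat.gcd 2 (q - 1) = Nat.gcd 2 (Fintype.card E - 1) := by
      rcases Nat.even_or_odd (Fintype.card E) with he | ho
      · rw [hE1 he, gcd_even (by omega)]
        rw [← hm]
        exact he.pow_of_ne_zero hm0
      · rw [hE2 ho, gcd_odd]
        rw [← hm]
        exact ho.pow
    have h1 : Nat.card K * Nat.gcd 2 (q - 1) = Fintype.card E * (Fintype.card E ^ 2 - 1) ∨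
        (Odd (Fintype.card E) ∧
          Nat.card K * Nat.gcd 2 (q - 1) = 2 * (Fintype.card E * (Fintype.card E ^ 2 - 1))) := by
      rcases h with ⟨⟨f⟩⟩ | ⟨⟨f⟩⟩
      · left
        rw [Nat.card_congr f.toEquiv, hgs]
        exact PSL2Basic.card_PSL2_gcd _
      · rw [Nat.card_congr f.toEquiv, H418.PglNse.card_pgl, hgs]
        rcases Nat.even_or_odd (Fintype.card E) with he | ho
        · left
          rw [hE1 he, mul_one]
        · right
          exact ⟨ho, by rw [hE2 ho, mul_comm]⟩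
    refine case_d (m := m) (n := Nat.card K * Nat.gcd 2 (q - 1)) hs (by rw [hm]; exact h4) hp hk h1 ?_
    rw [hm, ← hcard]
    ring

/-- **Subgroups of prime power index of `PSL_2(q)`** in the form of Guralnick's theorem S3608. -/
theorem out {G : Type*} [Group G] [Finite G] {F : Type} [Field F] [Fintype F] (h4 : 4 ≤ Fintype.card F)
    (e : G ≃* Matrix.ProjectiveSpecialLinearGroup (Fin 2) F)
    (H : Subgroup G) (p k : ℕ) (hp : p.Prime) (hk : 1 ≤ k) (hH : H.index = p ^ k) :
    (5 ≤ p ^ k ∧ Nonempty (G ≃* alternatingGroup (Fin (p ^ k)))) ∨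
    (∃ (d : ℕ) (F : Type) (_ : Field F) (_ : Fintype F), 2 ≤ d ∧
      Fintype.card F ^ d - 1 = p ^ k * (Fintype.card F - 1) ∧
      Nonempty (G ≃* Matrix.ProjectiveSpecialLinearGroup (Fin d) F)) ∨
    (p ^ k = 11 ∧ (Nonempty (G ≃* Matrix.ProjectiveSpecialLinearGroup (Fin 2) (ZMod 11)) ∨ Cfsg.IsM11 G)) ∨
    (p ^ k = 23 ∧ Cfsg.IsM23 G) ∨
    (p ^ k = 27 ∧ Nonempty (G ≃* Cfsg.PSp 2 (ZMod 3))) := by
  have hKi : (H.map e.toMonoidHom).index = p ^ k := by
    rw [← hH]
    exact Subgroup.index_map_of_bijective e.bijective H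
  rcases idx h4 _ p k hp hk hKi with ⟨h, h5⟩ | ⟨h, h5⟩ | ⟨h, h5⟩ | ⟨h, h5⟩ | h5
  · refine Or.inl ⟨h5.ge, alt_congr h5 ?_⟩
    exact (S0252.result h).map fun f => e.trans f
  · refine Or.inl ⟨h5.ge, alt_congr h5 ?_⟩
    exact (S0253.result h).map fun f => e.trans f
  · refine Or.inr (Or.inl ⟨3, ZMod 2, inferInstance, inferInstance, by norm_num, ?_, ?_⟩)
    · rw [h5, ZMod.card]; norm_num
    · exact (S0255.result h (ZMod.card 2)).map fun f => e.trans f
  · exact Or.inr (Or.inr (Or.inl ⟨h5, Or.inl (eleven h e)⟩))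
  · refine Or.inr (Or.inl ⟨2, F, inferInstance, inferInstance, le_rfl, ?_, ⟨e⟩⟩)
    rw [h5]
    have := Nat.sq_sub_sq (Fintype.card F) 1
    rw [one_pow] at this
    exact this

end Cfsg.Agent.H605.PSLTwoIndex
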