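import Cfsg.Agent.H504.ZerosCyc
import Cfsg.Agent.H868.KTwE6
import Cfsg.Agent.H129.CycRow
import Cfsg.Agent.H46.MSChev
import Cfsg.Agent.H494.TwE6Five
import Cfsg.Agent.S0242
import Cfsg.Agent.S1063
import Cfsg.Agent.S1066

/-!
# Zeros in the character tables of `E₆(q)`, `²E₆(q)` (helper605, for S4895)

* `big_of_tor` : `Big G` from a cyclic self-centralizing torus with automizer of order 9 and ten orders.
* `big_e6`, `big_te6`.
-/

set_option autoImplicit false

namespace Cfsg.Agent.H605.ZerosE6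

open Cfsg Cfsg.Lie Cfsg.Agent.H92.KTools Cfsg.Agent.H436 Cfsg.Agent.H129.CycT
  Cfsg.Agent.H504.Zeros Cfsg.Agent.H504.ZeroTI

universe u

/-- the torus, the automizer of order 9, the primes of the index and even composite orders -/
theorem big_of_tor {G : Type u} [Group G] [Finite G] {a n : ℕ} (h : CycExact G a) (ha : 46 ≤ a) (hodd : Odd a)
    (hn : Nat.card G = a * n) (hmod : ((n : ℤ) : ZMod a) = (9 : ℕ)) (C : Finset ℕ)
    (hC : ∀ c ∈ C, HasOrd G c ∧ ¬ c.Prime ∧ 2 ∣ c) (hcard : 10 ≤ n.primeFactors.card + C.card) : Big G := by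
  classical
  have hn0 : n ≠ 0 := by
    rintro rfl
    rw [mul_zero] at hn
    exact Nat.card_pos.ne' hn
  -- `n` is prime to `a`
  have hcop : ∀ r : ℕ, r.Prime → r ∣ n → r ∣ a → False := by
    obtain ⟨T, hT, hc, hz⟩ := h
    have hA := cc_of_cyclic hT hz
    have he := eIdx_of_int (N := (n : ℤ)) hA hc (by omega : 9 < a) (by omega)
      (by rw [hn]; push_cast; ring) hmod
    obtain ⟨m, hem⟩ := exists_m hA
    rw [hc, he] at hem
    intro r hr h1 h2
    have h3 : ((n : ℕ) : ZMod r) = ((9 : ℕ) : ZMod r) := by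
      have h4 := congrArg (ZMod.castHom h2 (ZMod r)) hmod
      rw [Int.cast_natCast, map_natCast, map_natCast] at h4
      exact h4
    rw [(ZMod.natCast_eq_zero_iff n r).2 h1] at h3
    have h5 : r ∣ 9 := (ZMod.natCast_eq_zero_iff 9 r).1 h3.symm
    have h6 : r ∣ 1 := by
      have h7 : r ∣ 9 * m := h5.mul_right m
      have h8 : a - 9 * m = 1 := by omega
      rw [← h8]
      exact Nat.dvd_sub h2 h7
    exact hr.one_lt.ne' (Nat.dvd_one.1 h6)
  have h2a : ¬ 2 ∣ a := by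
    intro h2
    obtain ⟨k, hk⟩ := hodd
    omega
  refine big_of_exact_orders h (by omega : 9 < a) (by omega) (N := (n : ℤ)) (by rw [hn]; push_cast; ring) hmod
    (insert 1 (n.primeFactors ∪ C)) ?_ ?_ ?_
  · intro k hk
    rw [Finset.mem_insert, Finset.mem_union] at hk
    rcases hk with rfl | hk | hk
    · exact hasOrd_one G
    · exact hasOrd_prime (Nat.prime_of_mem_primeFactors hk)
        ((Nat.dvd_of_mem_primeFactors hk).trans (by rw [hn]; exact dvd_mul_left _ _))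
    · exact (hC k hk).1
  · intro k hk
    rw [Finset.mem_insert, Finset.mem_union] at hk
    rcases hk with rfl | hk | hk
    · exact Or.inl rfl
    · exact Or.inr fun h1 => hcop k (Nat.prime_of_mem_primeFactors hk) (Nat.dvd_of_mem_primeFactors hk) h1
    · exact Or.inr fun h1 => h2a ((hC k hk).2.2.trans h1)
  · intro m hm
    have h1 : 11 ≤ (insert 1 (n.primeFactors ∪ C)).card := by
      rw [Finset.card_insert_of_notMem, Finset.card_union_of_disjoint]
      · omega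
      · rw [Finset.disjoint_left]
        intro k hk hk'
        exact (hC k hk').2.1 (Nat.prime_of_mem_primeFactors hk)
      · rw [Finset.mem_union, not_or]
        exact ⟨fun h => Nat.not_prime_one (Nat.prime_of_mem_primeFactors h), fun h => by
          have := (hC 1 h).2.2
          omega⟩
    have h2 : 5 ≤ m := by omega
    refine ⟨by omega, ?_⟩
    calc 8 = 4 * 2 := rfl
      _ ≤ (m - 1) * ((insert 1 (n.primeFactors ∪ C)).card - 9) := Nat.mul_le_mul (by omega) (by omega)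

/-- the index of the torus modulo `Φ₉(x)` -/
theorem nine_of {R : Type*} [CommRing R] {x : R} (h : x ^ 6 + x ^ 3 + 1 = 0) :
    x ^ 36 * ((x ^ 2 - 1) * (x ^ 5 - 1) * (x ^ 6 - 1) * (x ^ 8 - 1) * (x ^ 12 - 1) * (x ^ 3 - 1)) = 9 := by
  have h9 : x ^ 9 = 1 := by linear_combination (x ^ 3 - 1) * h
  have h36 : x ^ 36 = 1 := by
    rw [show x ^ 36 = (x ^ 9) ^ 4 by ring, h9, one_pow]
  have h12 : x ^ 12 = x ^ 3 := by
    rw [show x ^ 12 = x ^ 9 * x ^ 3 by ring, h9, one_mul]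
  have e1 : (x ^ 2 - 1) * (x ^ 5 - 1) * (x ^ 8 - 1) = x ^ 6 - 1 := by
    have h15 : x ^ 15 = x ^ 6 := by rw [show x ^ 15 = x ^ 9 * x ^ 6 by ring, h9, one_mul]
    have h13 : x ^ 13 = x ^ 4 := by rw [show x ^ 13 = x ^ 9 * x ^ 4 by ring, h9, one_mul]
    have h10 : x ^ 10 = x := by rw [show x ^ 10 = x ^ 9 * x by ring, h9, one_mul]
    linear_combination h15 - h13 - h10 + (x ^ 2 - x) * h
  have e2 : (x ^ 6 - 1) * (x ^ 3 - 1) = 3 := by linear_combination (x ^ 3 - 2) * h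
  have e3 : (x ^ 6 - 1) * (x ^ 6 - 1) * (x ^ 3 - 1) * (x ^ 3 - 1) = 9 := by
    have : (x ^ 6 - 1) * (x ^ 6 - 1) * (x ^ 3 - 1) * (x ^ 3 - 1) =
      ((x ^ 6 - 1) * (x ^ 3 - 1)) * ((x ^ 6 - 1) * (x ^ 3 - 1)) := by ring
    rw [this, e2]; norm_num
  rw [h36, h12]
  linear_combination (x ^ 6 - 1) * (x ^ 3 - 1) * (x ^ 3 - 1) * e1 + e3

/-- three even composite orders -/
theorem three_even {X : Type u} [Group X] {F : Type u} [Field F] [Finite F]
    (h1 : ∀ p : ℕ, Fact p.Prime → CharP F p → p ≠ 2 → HasOrd X 4 ∧ HasOrd X (2 * p) ∧ HasOrd X (4 * p))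
    (h2 : (2 : F) = 0 → HasOrd X 4 ∧ HasOrd X 6 ∧ HasOrd X 12) :
    ∃ C : Finset ℕ, C.card = 3 ∧ ∀ n ∈ C, HasOrd X n ∧ ¬ n.Prime ∧ 2 ∣ n := by
  obtain ⟨p, hp⟩ := CharP.exists F
  have hpr : p.Prime := CharP.char_is_prime F p
  have hf : Fact p.Prime := ⟨hpr⟩
  by_cases hp2 : p = 2
  · subst hp2
    obtain ⟨a, b, c⟩ := h2 (by exact_mod_cast CharP.cast_eq_zero F 2)
    refine ⟨{4, 6, 12}, by decide, ?_⟩
    simp only [Finset.mem_insert, Finset.mem_singleton, forall_eq_or_imp, forall_eq]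
    exact ⟨⟨a, by decide, by decide⟩, ⟨b, by decide, by decide⟩, ⟨c, by decide, by decide⟩⟩
  · obtain ⟨a, b, c⟩ := h1 p hf hp hp2
    have h3 := hpr.two_le
    have hnp : ∀ k, 2 ≤ k → ¬ (k * p).Prime := fun k hk => Nat.not_prime_mul (by omega) hpr.ne_one
    refine ⟨{4, 2 * p, 4 * p}, ?_, ?_⟩
    · rw [Finset.card_insert_of_notMem, Finset.card_pair]
      · omega
      · simp only [Finset.mem_insert, Finset.mem_singleton, not_or]
        omega
    · simp only [Finset.mem_insert, Finset.mem_singleton, forall_eq_or_imp, forall_eq]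
      exact ⟨⟨a, by decide, by decide⟩, ⟨b, hnp 2 le_rfl, dvd_mul_right _ _⟩,
        ⟨c, hnp 4 (by norm_num), (by norm_num : 2 ∣ 4).mul_right p⟩⟩

/-- the index of the torus of `E₆(q)` -/
def idxE (q : ℕ) : ℕ :=
  q ^ 36 * ((q ^ 2 - 1) * (q ^ 5 - 1) * (q ^ 6 - 1) * (q ^ 8 - 1) * (q ^ 12 - 1) * (q ^ 3 - 1))

/-- the index of the torus of `²E₆(q)` -/
def idxT (q : ℕ) : ℕ :=
  q ^ 36 * ((q ^ 2 - 1) * (q ^ 5 + 1) * (q ^ 6 - 1) * (q ^ 8 - 1) * (q ^ 12 - 1) * (q ^ 3 + 1))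

theorem cast_sub {q : ℕ} (hq : 1 ≤ q) (k : ℕ) : ((q ^ k - 1 : ℕ) : ℤ) = (q : ℤ) ^ k - 1 := by
  rw [Nat.cast_sub (Nat.one_le_pow _ _ hq)]
  push_cast
  ring

theorem idxE_mod {q a N : ℕ} (hq : 1 ≤ q) (ha : a ∣ N) (hN : (N : ℤ) = 1 + (q : ℤ) ^ 3 + (q : ℤ) ^ 6) :
    (((idxE q : ℕ) : ℤ) : ZMod a) = (9 : ℕ) := by
  have h1 : ((q : ZMod a)) ^ 6 + (q : ZMod a) ^ 3 + 1 = 0 := by
    have h2 := (ZMod.natCast_eq_zero_iff N a).2 ha
    have h3 : ((N : ℤ) : ZMod a) = 0 := by rw [Int.cast_natCast, h2]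
    rw [hN] at h3
    push_cast at h3
    linear_combination h3
  have h4 := nine_of h1
  unfold idxE
  simp only [Nat.cast_mul, cast_sub hq, Nat.cast_pow]
  push_cast
  exact h4

theorem idxT_mod {q a N : ℕ} (hq : 1 ≤ q) (ha : a ∣ N) (hN : (N : ℤ) = 1 - (q : ℤ) ^ 3 + (q : ℤ) ^ 6) :
    (((idxT q : ℕ) : ℤ) : ZMod a) = (9 : ℕ) := by
  have h1 : ((-(q : ZMod a))) ^ 6 + (-(q : ZMod a)) ^ 3 + 1 = 0 := by
    have h2 := (ZMod.natCast_eq_zero_iff N a).2 ha
    have h3 : ((N : ℤ) : ZMod a) = 0 := by rw [Int.cast_natCast, h2]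
    rw [hN] at h3
    push_cast at h3
    linear_combination h3
  have h4 := nine_of h1
  unfold idxT
  simp only [Nat.cast_mul, cast_sub hq, Nat.cast_pow]
  push_cast
  linear_combination h4

theorem card_primes {q n : ℕ} (hq : 2 ≤ q) (hn : n ≠ 0) (h1 : q * (q ^ 2 - 1) ∣ n) (E : Finset ℕ) (hE5 : E.card = 5)
    (hE : ∀ e ∈ E, 3 ≤ e ∧ ¬ (q = 2 ∧ e = 6)) (hd : ∀ e ∈ E, ∀ r, Prim q e r → r ∣ n) :
    7 ≤ n.primeFactors.card := by
  have h2 := card_add_le hq hn h1 E hE hd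
  have h3 := two_le_card hq
  omega

/-- **The row `E₆`.** -/
theorem big_e6 {F : Type} [Field F] [Fintype F] : Big (chevE6.group F) := by
  obtain ⟨q, hq⟩ : ∃ q, Fintype.card F = q := ⟨_, rfl⟩
  have hq2 : 2 ≤ q := by rw [← hq]; exact Fintype.one_lt_card
  set N := q ^ 6 + q ^ 3 + 1 with hNdef
  have hN : (N : ℤ) = 1 + (q : ℤ) ^ 3 + (q : ℤ) ^ 6 := by rw [hNdef]; push_cast; ring
  have hE := exact_E6_9 hq hN
  set d := Nat.gcd 3 (q - 1) with hd
  have hd3 : d ∣ 3 := Nat.gcd_dvd_left _ _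
  have hd0 : 0 < d := Nat.pos_of_dvd_of_pos hd3 (by norm_num)
  have hdN : d ∣ N := by
    have h1 : (q : ZMod d) = 1 := by
      have h7 := (ZMod.natCast_eq_zero_iff (q - 1) d).2 (Nat.gcd_dvd_right _ _)
      rw [Nat.cast_sub (by omega), Nat.cast_one] at h7
      exact sub_eq_zero.1 h7
    rw [← ZMod.natCast_eq_zero_iff, hNdef]
    push_cast
    rw [h1]
    have h3 := (ZMod.natCast_eq_zero_iff 3 d).2 hd3
    push_cast at h3
    linear_combination h3
  obtain ⟨a, ha⟩ := hdN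
  have hNa : N / d = a := by rw [ha, Nat.mul_div_cancel_left _ hd0]
  rw [hNa] at hE
  have hN73 : 73 ≤ N := by
    have h1 : 2 ^ 6 ≤ q ^ 6 := Nat.pow_le_pow_left hq2 6
    have h2 : 2 ^ 3 ≤ q ^ 3 := Nat.pow_le_pow_left hq2 3
    omega
  have hdle : d ≤ 3 := Nat.le_of_dvd (by norm_num) hd3
  have ha46 : 46 ≤ a := by
    by_cases h2 : q = 2
    · subst h2
      have : d = 1 := by rw [hd]; decide
      rw [this, one_mul] at ha
      omega
    · have h1 : 3 ^ 6 ≤ q ^ 6 := Nat.pow_le_pow_left (by omega) 6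
      have h3 : N ≤ 3 * a := by rw [ha]; exact Nat.mul_le_mul_right _ hdle
      omega
  have hodd : Odd a := by
    have h1 : Odd N := by
      rw [hNdef]
      rcases q.even_or_odd with h | h
      · exact ((h.pow_of_ne_zero (by norm_num)).add (h.pow_of_ne_zero (by norm_num))).add_one
      · exact ((h.pow).add_odd (h.pow)).add_one
    rw [ha] at h1
    exact (Nat.odd_mul.1 h1).2
  have hcard : Nat.card ↥(chevE6.group F) = a * idxE q := by
    have h1 := Cfsg.Agent.S1063.result (F := F) hq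
    have h2 : q ^ 9 - 1 = (q ^ 3 - 1) * (d * a) := by
      rw [← ha]
      zify [Nat.one_le_pow 9 q (by omega), Nat.one_le_pow 3 q (by omega)]
      rw [hN]
      ring
    rw [← hd, h2] at h1
    apply Nat.eq_of_mul_eq_mul_left hd0
    rw [h1]
    unfold idxE
    ring
  have hn0 : idxE q ≠ 0 := by
    intro h
    rw [h, mul_zero] at hcard
    exact Nat.card_pos.ne' hcard
  obtain ⟨C, hC3, hC⟩ := three_even (X := ↥(chevE6.group F)) (F := F)
    (fun p hp hc h => Cfsg.Agent.H92.ExcOrd.e6_odd (F := F) p h) (fun h => Cfsg.Agent.H92.ExcOrd.e6_two h)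
  have h7 : 7 ≤ (idxE q).primeFactors.card := by
    have hm : q * (q ^ 2 - 1) ∣ idxE q := by
      refine Nat.mul_dvd_mul (dvd_pow_self q (by norm_num)) ?_
      simp only [mul_assoc]
      exact dvd_mul_right _ _
    refine card_primes hq2 hn0 hm {3, 4, 5, 8, 12} (by decide) (by simp) ?_
    have key : ∀ e r k, e ∣ k → q ^ k - 1 ∣ idxE q → Prim q e r → r ∣ idxE q :=
      fun e r k hek hdv hr => (hr.dvd hek).trans hdv
    have d5 : q ^ 5 - 1 ∣ idxE q := ⟨q ^ 36 * ((q ^ 2 - 1) * (q ^ 6 - 1) * (q ^ 8 - 1) * (q ^ 12 - 1) * (q ^ 3 - 1)),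
      by unfold idxE; ring⟩
    have d8 : q ^ 8 - 1 ∣ idxE q := ⟨q ^ 36 * ((q ^ 2 - 1) * (q ^ 5 - 1) * (q ^ 6 - 1) * (q ^ 12 - 1) * (q ^ 3 - 1)),
      by unfold idxE; ring⟩
    have d12 : q ^ 12 - 1 ∣ idxE q := ⟨q ^ 36 * ((q ^ 2 - 1) * (q ^ 5 - 1) * (q ^ 6 - 1) * (q ^ 8 - 1) * (q ^ 3 - 1)),
      by unfold idxE; ring⟩
    simp only [Finset.mem_insert, Finset.mem_singleton, forall_eq_or_imp, forall_eq]
    exact ⟨fun r => key 3 r 12 (by norm_num) d12, fun r => key 4 r 12 (by norm_num) d12,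
      fun r => key 5 r 5 (by norm_num) d5, fun r => key 8 r 8 (by norm_num) d8,
      fun r => key 12 r 12 (by norm_num) d12⟩
  exact big_of_tor hE ha46 hodd hcard (idxE_mod (by omega) ⟨d, by rw [ha, mul_comm]⟩ hN) C hC (by omega)

/-! ### `²E₆(2)` -/

section Two

open Cfsg.Agent.H46.MS Cfsg.Agent.ChevalleyStructure Cfsg.Agent.ChevalleyStructure.Elts
open Cfsg.Agent.ChevalleyStructure.SL2Hom (up lo)
open Cfsg.Agent.H494.TwE6Five (psi psi_mem f1 f6 f1_up f1_lo f6_up f6_lo psi_apply exists_hom)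
open Cfsg.Agent.ChevalleyStructure.E6Fixed (hE6 x_mem)

variable {K : Type} [Field K] [Fintype K]

/-- orthogonality of the pair `(p₁, p₆)` and the subsystem `A₂` of `p₂, p₄` -/
theorem orth_tab : ∀ r ∈ [56, 15, 36, 35], ∀ i j : Fin 3, i ≠ j →
    r < chevE6.nroots ∧ rt chevE6 39 46 47 i j < chevE6.nroots ∧
      Cfsg.Agent.H92.ExcSL2.OrthB chevE6 r (rt chevE6 39 46 47 i j) = true := by
  decide +kernel

/-- a root element of the subsystem commutes with the twisted `SL₂(K)` -/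
theorem commute_psi (φ : K →+* K) (i j : Fin 3) (hij : i ≠ j) (t : K) (A : Matrix.SpecialLinearGroup (Fin 2) K) :
    Commute (psi φ A) (xG hE6 (rt chevE6 39 46 47 i j) t) := by
  have key : ∀ r ∈ [56, 15, 36, 35], ∀ s : K, Commute (xG hE6 r s) (xG hE6 (rt chevE6 39 46 47 i j) t) := by
    intro r hr s
    obtain ⟨h1, h2, h3⟩ := orth_tab r hr i j hij
    exact Cfsg.Agent.H92.ExcSL2.xG_commute hE6 h1 h2 h3 s t
  have h1 : (Subgroup.centralizer {xG hE6 (rt chevE6 39 46 47 i j) t}).comap (psi φ) = ⊤ := by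
    refine Cfsg.Agent.H494.TwE6Five.sl_closure (fun s => ?_) (fun s => ?_)
    · rw [Subgroup.mem_comap, Subgroup.mem_centralizer_singleton_iff, psi_apply, f1_up, f6_up]
      exact ((key 56 (by simp) s).mul_left (key 36 (by simp) _)).eq
    · rw [Subgroup.mem_comap, Subgroup.mem_centralizer_singleton_iff, psi_apply, f1_lo, f6_lo]
      exact ((key 15 (by simp) s).mul_left (key 35 (by simp) _)).eq
  have h2 : A ∈ (Subgroup.centralizer {xG hE6 (rt chevE6 39 46 47 i j) t}).comap (psi φ) := by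
    rw [h1]; exact Subgroup.mem_top A
  rw [Subgroup.mem_comap, Subgroup.mem_centralizer_singleton_iff] at h2
  exact h2

theorem center_sl {R : Type*} [Field R] {n : ℕ} (h : ∀ c : R, c ^ n = 1 → c = 1)
    {A : Matrix.SpecialLinearGroup (Fin n) R} (hA : A ∈ Subgroup.center (Matrix.SpecialLinearGroup (Fin n) R)) :
    A = 1 := by
  obtain ⟨c, hc, h2⟩ := Matrix.SpecialLinearGroup.mem_center_iff.1 hA
  rw [Fintype.card_fin] at hc
  rw [h c hc, map_one] at h2
  exact Subtype.ext h2.symm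

theorem rt_mem : ∀ i j : Fin 3, i ≠ j → rt chevE6 39 46 47 i j ∈ [46, 25, 39, 32] ∨
    rt chevE6 39 46 47 i j = 47 ∨ rt chevE6 39 46 47 i j = 24 := by decide +kernel

end Two

section Two'

open scoped commutatorElement

open Cfsg.Agent.H46.MS Cfsg.Agent.ChevalleyStructure Cfsg.Agent.ChevalleyStructure.Elts
open Cfsg.Agent.ChevalleyStructure.SL2Hom (up lo)
open Cfsg.Agent.H494.TwE6Five (psi psi_mem f1 f6 f1_up f1_lo f6_up f6_lo psi_apply exists_hom)
open Cfsg.Agent.ChevalleyStructure.E6Fixed (hE6 x_mem)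

variable {K : Type} [Field K] [Fintype K]

theorem comm_mem {G : Type*} [Group G] {S : Subgroup G} {x y : G} (hx : x ∈ S) (hy : y ∈ S) : ⁅x, y⁆ ∈ S := by
  rw [commutatorElement_def]
  exact mul_mem (mul_mem (mul_mem hx hy) (inv_mem hx)) (inv_mem hy)

omit [Fintype K] in
theorem mem_tw (f : ZMod 2 →+* K) (i j : Fin 3) (hij : i ≠ j) (t : ZMod 2) :
    rx hE6 f 39 46 47 i j t ∈ twistedE6 K 2 := by
  have hf : ∀ t : ZMod 2, (f t) ^ 2 = f t := by
    intro t
    rw [← map_pow]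
    congr 1
    revert t; decide
  have h1 : ∀ i j : Fin 3, i ≠ j → rt chevE6 39 46 47 i j ∈ [46, 25, 39, 32] → ∀ t : ZMod 2,
      rx hE6 f 39 46 47 i j t ∈ twistedE6 K 2 := fun i j _ h t => x_mem h (hf t)
  have hS := rx_stein hE6 f isA2_E6
  by_cases h2 : i = 0 ∧ j = 2
  · obtain ⟨rfl, rfl⟩ := h2
    have h3 := hS.br 0 1 2 (by decide) (by decide) (by decide) t 1
    rw [mul_one] at h3
    rw [← h3]
    exact comm_mem (h1 0 1 (by decide) (by decide +kernel) t) (h1 1 2 (by decide) (by decide +kernel) 1)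
  · by_cases h3 : i = 2 ∧ j = 0
    · obtain ⟨rfl, rfl⟩ := h3
      have h3 := hS.br 2 1 0 (by decide) (by decide) (by decide) t 1
      rw [mul_one] at h3
      rw [← h3]
      exact comm_mem (h1 2 1 (by decide) (by decide +kernel) t) (h1 1 0 (by decide) (by decide +kernel) 1)
    · refine h1 i j hij ?_ t
      revert i j
      decide +kernel

/-- `SL₃(2)` in `²E₆(2)`, commuting with the twisted `SL₂(4)` -/
theorem exists_pi [CharP K 2] : ∃ π : Matrix.SpecialLinearGroup (Fin 3) (ZMod 2) →* GL chevE6.Idx K,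
    Function.Injective π ∧ (∀ g, π g ∈ twistedE6 K 2) ∧
      ∀ (φ : K →+* K) (A : Matrix.SpecialLinearGroup (Fin 2) K) (g : Matrix.SpecialLinearGroup (Fin 3) (ZMod 2)),
        Commute (psi φ A) (π g) := by
  obtain ⟨π, h1, h2⟩ := exists_sl_three hE6 (ZMod.castHom (dvd_refl 2) K) isA2_E6
  refine ⟨π, ?_, ?_, ?_⟩
  · rw [injective_iff_map_eq_one]
    intro A hA
    exact center_sl (by decide) (h2 hA)
  · intro g
    have h3 : π.range ≤ twistedE6 K 2 := by
      rw [h1, Subgroup.closure_le]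
      rintro _ ⟨i, j, hij, t, rfl⟩
      exact mem_tw _ i j hij t
    exact h3 ⟨g, rfl⟩
  · intro φ A g
    have h3 : π.range ≤ Subgroup.centralizer {psi φ A} := by
      rw [h1, Subgroup.closure_le]
      rintro _ ⟨i, j, hij, t, rfl⟩
      rw [SetLike.mem_coe, Subgroup.mem_centralizer_singleton_iff]
      exact (commute_psi φ i j hij _ A).eq.symm
    have h4 := h3 ⟨g, rfl⟩
    rw [Subgroup.mem_centralizer_singleton_iff] at h4
    exact h4.symm

/-- an element of order four in `SL₃(2)` -/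
theorem exists_four : ∃ g : Matrix.SpecialLinearGroup (Fin 3) (ZMod 2), orderOf g = 4 := by
  refine ⟨⟨!![1, 1, 0; 0, 1, 1; 0, 0, 1], by decide⟩, ?_⟩
  have : Fact (Nat.Prime 2) := ⟨Nat.prime_two⟩
  refine orderOf_eq_prime_pow (p := 2) (n := 1) ?_ ?_
  · decide
  · decide

theorem card_sl_three : Nat.card (Matrix.SpecialLinearGroup (Fin 3) (ZMod 2)) = 168 := by
  have h := Cfsg.Agent.S0242.result (F := ZMod 2) (ZMod.card 2) 3 (by norm_num)
  rw [Fin.prod_univ_three] at h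
  simpa using h

theorem card_sl_two (hK : Fintype.card K = 4) : Nat.card (Matrix.SpecialLinearGroup (Fin 2) K) = 60 := by
  have h := Cfsg.Agent.S0242.result (F := K) hK 2 (by norm_num)
  rw [Fin.prod_univ_two] at h
  norm_num at h
  omega

theorem psi_injective [CharP K 2] (hK : Fintype.card K = 4) (φ : K →+* K) : Function.Injective (psi φ) := by
  rw [injective_iff_map_eq_one]
  intro A hA
  rcases Cfsg.Agent.H494.TwE6Five.sl_normal (by omega) (psi φ).ker inferInstance with h | h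
  · exact absurd h (Cfsg.Agent.H494.TwE6Five.psi_ker_ne φ)
  · refine center_sl (fun c hc => ?_) (h hA)
    have h2 : (c - 1) ^ 2 = 0 := by
      have h3 : (2 : K) = 0 := by exact_mod_cast CharP.cast_eq_zero K 2
      linear_combination hc + (1 - c) * h3
    have h4 := pow_eq_zero_iff (two_ne_zero) |>.1 h2
    exact sub_eq_zero.1 h4

/-- products of commuting elements -/
theorem hasOrd_mul (hK : Fintype.card K = 4) {a b : ℕ} (ha : HasOrd (Matrix.SpecialLinearGroup (Fin 2) K) a)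
    (hb : HasOrd (Matrix.SpecialLinearGroup (Fin 3) (ZMod 2)) b) (hab : a.Coprime b) :
    HasOrd (twistedE6 K 2) (a * b) := by
  have hK' : Fintype.card K = 2 ^ 2 := by rw [hK]; norm_num
  have h2 : CharP K 2 := by
    obtain ⟨p, hp⟩ := CharP.exists K
    have hpr : p.Prime := CharP.char_is_prime K p
    have h1 : p ∣ 4 := by
      rw [← CharP.cast_eq_zero_iff K p, ← hK]
      exact FiniteField.cast_card_eq_zero K
    have h3 : p ∣ 2 ^ 2 := h1
    rw [← (Nat.prime_dvd_prime_iff_eq hpr Nat.prime_two).1 (hpr.dvd_of_dvd_pow h3)]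
    exact hp
  obtain ⟨φ, hφ⟩ := TwistedE6Sigma.exists_frob (K := K) (m := 2) Nat.prime_two.isPrimePow two_ne_zero hK'
  obtain ⟨π, hπ, hπm, hπc⟩ := exists_pi (K := K)
  obtain ⟨A, hA⟩ := ha
  obtain ⟨g, hg⟩ := hb
  refine Cfsg.Agent.H868.KSL2.hasOrd_of_mem (x := psi φ A * π g)
    (mul_mem (psi_mem hφ A) (hπm g)) ?_
  rw [(hπc φ A g).orderOf_mul_eq_mul_orderOf_of_coprime, orderOf_injective _ (psi_injective hK φ),
    orderOf_injective _ hπ, hA, hg]
  rw [orderOf_injective _ (psi_injective hK φ), orderOf_injective _ hπ, hA, hg]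
  exact hab

/-- the orders used for `²E₆(2)` -/
def S17 : Finset ℕ := {1, 2, 3, 4, 5, 6, 7, 10, 11, 12, 13, 14, 15, 17, 20, 21, 35}

theorem big_te6_two (hK : Fintype.card K = 4) : Big (twistedE6 K 2) := by
  have hK' : Fintype.card K = 2 ^ 2 := by rw [hK]; norm_num
  have hF' : Nat.card K = 2 ^ 2 := by rw [Nat.card_eq_fintype_card, hK']
  have hE := exact_tE6_18 (F := K) (q := 2) Nat.prime_two.isPrimePow hK' (N := 57) (by norm_num)
  have e19 : 57 / Nat.gcd 3 (2 + 1) = 19 := by decide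
  rw [e19] at hE
  have hcard : Nat.card ↥(twistedE6 K 2) = 19 * idxT 2 := by
    have h1 := Cfsg.Agent.S1066.result (K := K) (q := 2) Nat.prime_two.isPrimePow hK'
    have e3 : Nat.gcd 3 (2 + 1) = 3 := by decide
    rw [e3] at h1
    unfold idxT
    norm_num at h1 ⊢
    omega
  have h2 : (2 : K) = 0 := by
    have h1 : ((Fintype.card K : ℕ) : K) = 0 := FiniteField.cast_card_eq_zero K
    rw [hK] at h1
    have h3 : (2 : K) ^ 2 = 0 := by
      have h4 : ((4 : ℕ) : K) = (2 : K) ^ 2 := by norm_num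
      rw [← h4, h1]
    exact pow_eq_zero_iff (two_ne_zero) |>.1 h3
  obtain ⟨o4, o6, o12⟩ := Cfsg.Agent.H868.KTwE6.ords_two Nat.prime_two.isPrimePow hF' h2
  have s2 := hasOrd_prime (G := Matrix.SpecialLinearGroup (Fin 2) K) Nat.prime_two (by rw [card_sl_two hK]; norm_num)
  have s3 := hasOrd_prime (G := Matrix.SpecialLinearGroup (Fin 2) K) Nat.prime_three (by rw [card_sl_two hK]; norm_num)
  have s5 := hasOrd_prime (G := Matrix.SpecialLinearGroup (Fin 2) K) Nat.prime_five (by rw [card_sl_two hK]; norm_num)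
  have t3 := hasOrd_prime (G := Matrix.SpecialLinearGroup (Fin 3) (ZMod 2)) Nat.prime_three (by rw [card_sl_three]; norm_num)
  have t7 := hasOrd_prime (G := Matrix.SpecialLinearGroup (Fin 3) (ZMod 2)) (by norm_num : Nat.Prime 7)
    (by rw [card_sl_three]; norm_num)
  have t4 : HasOrd (Matrix.SpecialLinearGroup (Fin 3) (ZMod 2)) 4 := exists_four
  have o20 : HasOrd (twistedE6 K 2) 20 := hasOrd_mul hK s5 t4 (by norm_num)
  have pr : ∀ p : ℕ, p.Prime → p ∣ 19 * idxT 2 → HasOrd (twistedE6 K 2) p := fun p hp hd =>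
    hasOrd_prime hp (by rw [hcard]; exact hd)
  refine big_of_exact_orders hE (by norm_num : 9 < 19) (by norm_num) (N := (idxT 2 : ℕ)) (by rw [hcard]; push_cast; ring)
    (idxT_mod (N := 57) (by norm_num) (by norm_num) (by norm_num)) S17 ?_ ?_ ?_
  · simp only [S17, Finset.mem_insert, Finset.mem_singleton, forall_eq_or_imp, forall_eq]
    exact ⟨hasOrd_one _, pr 2 (by norm_num) (by unfold idxT; norm_num), pr 3 (by norm_num) (by unfold idxT; norm_num),
      o4, pr 5 (by norm_num) (by unfold idxT; norm_num), o6, pr 7 (by norm_num) (by unfold idxT; norm_num),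
      o20.of_dvd (by norm_num) (by norm_num), pr 11 (by norm_num) (by unfold idxT; norm_num), o12,
      pr 13 (by norm_num) (by unfold idxT; norm_num), hasOrd_mul hK s2 t7 (by norm_num),
      hasOrd_mul hK s5 t3 (by norm_num), pr 17 (by norm_num) (by unfold idxT; norm_num), o20,
      hasOrd_mul hK s3 t7 (by norm_num), hasOrd_mul hK s5 t7 (by norm_num)⟩
  · decide
  · intro m hm
    have : m = 2 := by omega
    subst this
    exact ⟨le_rfl, by decide⟩

end Two'

/-- **The row `²E₆`.** -/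
theorem big_te6 {K : Type} [Field K] [Fintype K] {q : ℕ} (hq : IsPrimePow q) (hK : Fintype.card K = q ^ 2) :
    Big (twistedE6 K q) := by
  have hq2 : 2 ≤ q := hq.two_le
  by_cases h2 : q = 2
  · subst h2
    exact big_te6_two (by rw [hK]; norm_num)
  have hq3 : 3 ≤ q := by omega
  have hF' : Nat.card K = q ^ 2 := by rw [Nat.card_eq_fintype_card, hK]
  have hle : q ^ 3 ≤ q ^ 6 + 1 := by
    have := Nat.pow_le_pow_right (show 0 < q by omega) (show 3 ≤ 6 by norm_num)
    omega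
  set N := q ^ 6 + 1 - q ^ 3 with hNdef
  have hN : (N : ℤ) = 1 - (q : ℤ) ^ 3 + (q : ℤ) ^ 6 := by
    rw [hNdef, Nat.cast_sub hle]; push_cast; ring
  have hE := exact_tE6_18 hq hK hN
  set d := Nat.gcd 3 (q + 1) with hd
  have hd3 : d ∣ 3 := Nat.gcd_dvd_left _ _
  have hd0 : 0 < d := Nat.pos_of_dvd_of_pos hd3 (by norm_num)
  have hdN : d ∣ N := by
    have h1 : (q : ZMod d) = -1 := by
      have h7 := (ZMod.natCast_eq_zero_iff (q + 1) d).2 (Nat.gcd_dvd_right _ _)
      push_cast at h7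
      linear_combination h7
    rw [← ZMod.natCast_eq_zero_iff]
    have h3 : ((N : ℤ) : ZMod d) = 0 := by
      rw [hN]
      push_cast
      rw [h1]
      have h3 := (ZMod.natCast_eq_zero_iff 3 d).2 hd3
      push_cast at h3
      linear_combination h3
    exact_mod_cast h3
  obtain ⟨a, ha⟩ := hdN
  have hNa : N / d = a := by rw [ha, Nat.mul_div_cancel_left _ hd0]
  rw [hNa] at hE
  have hN73 : 138 ≤ N := by
    have h1 : 3 ^ 3 ≤ q ^ 3 := Nat.pow_le_pow_left hq3 3
    have h3 : q ^ 6 = q ^ 3 * q ^ 3 := by ring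
    have h4 : 27 * q ^ 3 ≤ q ^ 3 * q ^ 3 := Nat.mul_le_mul_right _ h1
    omega
  have hdle : d ≤ 3 := Nat.le_of_dvd (by norm_num) hd3
  have ha46 : 46 ≤ a := by
    have h3 : N ≤ 3 * a := by rw [ha]; exact Nat.mul_le_mul_right _ hdle
    omega
  have hodd : Odd a := by
    have h1 : Odd (N : ℤ) := by
      have e : (N : ℤ) = (q : ℤ) ^ 3 * ((q : ℤ) ^ 3 - 1) + 1 := by rw [hN]; ring
      rw [e]
      have h2 : Even ((q : ℤ) ^ 3 * ((q : ℤ) ^ 3 - 1)) := by
        rcases Int.even_or_odd ((q : ℤ) ^ 3) with h | h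
        · exact h.mul_right _
        · exact (h.sub_odd odd_one).mul_left _
      exact h2.add_one
    have h1' : Odd N := by exact_mod_cast h1
    rw [ha] at h1'
    exact (Nat.odd_mul.1 h1').2
  have hcard : Nat.card ↥(twistedE6 K q) = a * idxT q := by
    have h1 := Cfsg.Agent.S1066.result (K := K) hq hK
    have h2 : q ^ 9 + 1 = (q ^ 3 + 1) * (d * a) := by
      rw [← ha]
      zify
      rw [hN]
      ring
    rw [← hd, h2] at h1
    apply Nat.eq_of_mul_eq_mul_left hd0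
    rw [h1]
    unfold idxT
    ring
  have hn0 : idxT q ≠ 0 := by
    intro h
    rw [h, mul_zero] at hcard
    exact Nat.card_pos.ne' hcard
  obtain ⟨C, hC3, hC⟩ := three_even (X := ↥(twistedE6 K q)) (F := K)
    (fun p hp hc h => Cfsg.Agent.H868.KTwE6.ords_odd hq hF' p h) (fun h => Cfsg.Agent.H868.KTwE6.ords_two hq hF' h)
  have h7 : 7 ≤ (idxT q).primeFactors.card := by
    have hm : q * (q ^ 2 - 1) ∣ idxT q := by
      refine Nat.mul_dvd_mul (dvd_pow_self q (by norm_num)) ?_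
      simp only [mul_assoc]
      exact dvd_mul_right _ _
    refine card_primes hq2 hn0 hm {3, 4, 8, 10, 12} (by decide) (by simp) ?_
    have key : ∀ e r k, e ∣ k → q ^ k - 1 ∣ idxT q → Prim q e r → r ∣ idxT q :=
      fun e r k hek hdv hr => (hr.dvd hek).trans hdv
    have d5 : q ^ 5 + 1 ∣ idxT q := ⟨q ^ 36 * ((q ^ 2 - 1) * (q ^ 6 - 1) * (q ^ 8 - 1) * (q ^ 12 - 1) * (q ^ 3 + 1)),
      by unfold idxT; ring⟩
    have d8 : q ^ 8 - 1 ∣ idxT q := ⟨q ^ 36 * ((q ^ 2 - 1) * (q ^ 5 + 1) * (q ^ 6 - 1) * (q ^ 12 - 1) * (q ^ 3 + 1)),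
      by unfold idxT; ring⟩
    have d12 : q ^ 12 - 1 ∣ idxT q := ⟨q ^ 36 * ((q ^ 2 - 1) * (q ^ 5 + 1) * (q ^ 6 - 1) * (q ^ 8 - 1) * (q ^ 3 + 1)),
      by unfold idxT; ring⟩
    simp only [Finset.mem_insert, Finset.mem_singleton, forall_eq_or_imp, forall_eq]
    exact ⟨fun r => key 3 r 12 (by norm_num) d12, fun r => key 4 r 12 (by norm_num) d12,
      fun r => key 8 r 8 (by norm_num) d8,
      fun r hr => (hr.dvd_add (by norm_num) (by norm_num)).trans d5,
      fun r => key 12 r 12 (by norm_num) d12⟩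
  exact big_of_tor hE ha46 hodd hcard (idxT_mod (by omega) ⟨d, by rw [ha, mul_comm]⟩ hN) C hC (by omega)

end Cfsg.Agent.H605.ZerosE6
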